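import Cfsg.Agent.H408.EngStr_m3
import Cfsg.Agent.H341.ThreeList_m3
import Cfsg.Agent.FastGrp
import Cfsg.Agent.Prune
set_option linter.all false
prune_inst 0x7f00000000000000000000000000000000000000000000000000000000000000000000000000000000000000000000000000000000000000000000000000000000000000000000000000000000000000003fffffffffffffffffffffffffffbeffbdffffffff
open scoped Cfsg.Agent.FastGrp

/-!
# The numeric engine for subgroups of prime power index (helper408)

`good_of_check` : `G` simple of order `n`, with a self-centralising subgroup of prime order `r`; if the numeric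
check `chk n l p r ex` succeeds then no proper subgroup of `G` has `p`-power index. `ex` : primes `s` such that the
elements of order a power of `s` do not all have order dividing `s`.
-/

set_option autoImplicit false

namespace Cfsg.Agent.H408.Engine

open Subgroup
open Cfsg.Agent.H408.Core Cfsg.Agent.H408.LemmaK Cfsg.Agent.H408.EngStr
open Cfsg.Agent.H361.SelfCent Cfsg.Agent.OrdDiv

universe u

/-! ### the check -/

/-- `d = |N_G(R) : N_H(R)|` is possible for `|G : H| = p ^ k`, `e = |N_G(R) : R|` -/
def okd (n p r e k d : ℕ) : Bool :=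
  Nat.ble 1 d && (e % d == 0) && (d % r == p ^ k % r) && ((n / p ^ k) % (r * (e / d)) == 0)

/-- no soluble normal subgroup of order prime to `r` -/
def chkEl (l : List (ℕ × ℕ)) (p r : ℕ) (ex : List ℕ) : Bool :=
  l.all fun x => (x.1 == p) || (x.1 == r) || (List.range (x.2 + 1)).all fun a =>
    (a == 0) || (x.1 ^ a % r != 1) || (ex.contains x.1 && (a == x.2)) ||
      l.any fun y => (y.1 != p) && (y.1 != x.1) && (y.1 != r) && Nat.ble 1 y.2 &&
        ((List.range (a + 1)).all fun i => (i == 0) || (x.1 ^ i % y.1 != 1)) &&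
        ((List.range (y.2 + 1)).all fun b => (b == 0) || (y.1 ^ b % r != 1))

/-- no known simple group of order `n / (p ^ k * c)`, `c ∣ e / d` -/
def chkN (n : ℕ) (l : List (ℕ × ℕ)) (p e k d : ℕ) : Bool :=
  (List.range (e / d + 1)).all fun c => (c == 0) || ((e / d) % c != 0) ||
    (cands l n).all fun g => (ordN g * c * p ^ k != n)

def chkK (n : ℕ) (l : List (ℕ × ℕ)) (p r e k : ℕ) (ex : List ℕ) : Bool :=
  (List.range (e + 1)).all fun d => !(okd n p r e k d) || (Nat.blt (p ^ k) 30 && (p ^ k).factorial % n != 0) ||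
    (chkEl l p r ex && chkN n l p e k d && (n != r * (e / d) * p ^ k))

/-- the check, for the indices `p ^ k` with `k ≤ v` -/
def chk (n : ℕ) (l : List (ℕ × ℕ)) (p r v : ℕ) (ex : List ℕ) : Bool :=
  (n % r ^ 2 != 0) && (List.range (v + 1)).all fun k => (k == 0) || chkK n l p r ((n / r) % r) k ex

/-! ### auxiliary facts -/

/-- a simple group with a subgroup of index `i > 1` has order dividing `i !` -/
theorem card_dvd_factorial {G : Type*} [Group G] [Finite G] [IsSimpleGroup G] {H : Subgroup G} (hH : H ≠ ⊤) :
    Nat.card G ∣ (H.index).factorial := by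
  classical
  have h1 : (MulAction.toPermHom G (G ⧸ H)).ker = ⊥ := by
    rw [← Subgroup.normalCore_eq_ker]
    rcases (inferInstance : IsSimpleGroup G).eq_bot_or_eq_top_of_normal H.normalCore inferInstance with h | h
    · exact h
    · exact absurd (top_le_iff.1 (h ▸ normalCore_le H)) hH
  have h2 : Function.Injective (MulAction.toPermHom G (G ⧸ H)) := (MonoidHom.ker_eq_bot_iff _).1 h1
  have h3 := Subgroup.card_dvd_of_injective (MulAction.toPermHom G (G ⧸ H)) h2
  have h4 : Nat.card (Equiv.Perm (G ⧸ H)) = (H.index).factorial := Nat.card_perm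
  rwa [h4] at h3

/-- an element of prime order `t` centralises an elementary abelian normal subgroup of order `s ^ a` if no
`s ^ i - 1`, `1 ≤ i ≤ a`, is divisible by `t` -/
theorem centralizes {H : Type*} [Group H] [Finite H] {s t a : ℕ} (hs : s.Prime) (ht : t.Prime) (hts : t ≠ s)
    {N : Subgroup H} (hN : ∀ h : H, ∀ x ∈ N, h * x * h⁻¹ ∈ N) (hc : Nat.card N = s ^ a)
    (hi : ∀ i, 1 ≤ i → i ≤ a → s ^ i % t ≠ 1) {y : H} (hy : orderOf y = t) : ∀ x ∈ N, x * y = y * x := by
  have : Fact s.Prime := ⟨hs⟩
  let f : Equiv.Perm N :=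
    { toFun := fun w => ⟨y * w * y⁻¹, hN y w w.2⟩
      invFun := fun w => ⟨y⁻¹ * w * y, by have := hN y⁻¹ w w.2; rwa [inv_inv] at this⟩
      left_inv := fun w => Subtype.ext (by simp [mul_assoc])
      right_inv := fun w => Subtype.ext (by simp [mul_assoc]) }
  have hfk : ∀ k : ℕ, ∀ w : N, (((f ^ k) w : N) : H) = y ^ k * w * (y ^ k)⁻¹ := by
    intro k
    induction k with
    | zero => intro w; simp
    | succ k ih =>
      intro w
      rw [pow_succ', Equiv.Perm.mul_apply]
      change y * ((f ^ k) w : N) * y⁻¹ = _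
      rw [ih, pow_succ']
      group
  have hf : f ^ t = 1 := by
    ext w
    rw [hfk, ← hy, pow_orderOf_eq_one]
    simp
  have h1 := card_modEq_of_perm ht f hf
  -- the fixed points
  let C : Subgroup N := (centralizer ({y} : Set H)).subgroupOf N
  have hmem : ∀ w : N, w ∈ C ↔ f w = w := by
    intro w
    rw [mem_subgroupOf, mem_centralizer_singleton_iff]
    constructor
    · intro h
      apply Subtype.ext
      change y * (w : H) * y⁻¹ = w
      rw [← h, mul_inv_cancel_right]
    · intro h
      have h2 : y * (w : H) * y⁻¹ = w := congrArg Subtype.val h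
      calc (w : H) * y = (y * (w : H) * y⁻¹) * y := by rw [h2]
        _ = y * w := by group
  have h2 : Nat.card {w : N // f w = w} = Nat.card C :=
    Nat.card_congr (Equiv.subtypeEquivRight fun w => (hmem w).symm)
  rw [h2, hc] at h1
  have h3 : Nat.card C ∣ s ^ a := by
    rw [← hc]
    exact Subgroup.card_subgroup_dvd_card C
  obtain ⟨b, hb, hCb⟩ := (Nat.dvd_prime_pow hs).1 h3
  rw [hCb] at h1
  have hab : a = b := by
    by_contra hne
    have hlt : b < a := lt_of_le_of_ne hb (Ne.symm hne)
    apply hi (a - b) (by omega) (by omega)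
    have h4 : s ^ b * s ^ (a - b) ≡ s ^ b * 1 [MOD t] := by
      rw [mul_one, ← pow_add, show b + (a - b) = a by omega]
      exact h1
    have h5 : s ^ (a - b) ≡ 1 [MOD t] := by
      apply Nat.ModEq.cancel_left_of_coprime _ h4
      exact Nat.Coprime.pow_right _ ((Nat.coprime_primes ht hs).2 hts)
    have h6 : s ^ (a - b) % t = 1 % t := h5
    rw [h6]
    exact Nat.mod_eq_of_lt ht.one_lt
  have hCt : C = ⊤ := by
    apply Subgroup.eq_top_of_card_eq
    rw [hCb, hc, hab]
  intro x hx
  have h4 : (⟨x, hx⟩ : N) ∈ C := by rw [hCt]; trivial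
  exact mem_centralizer_singleton_iff.1 h4

/-- if `N` is an elementary abelian subgroup of order `s ^ v`, the exact power of `s` in `|G|`, then no element
of `G` has order `s ^ 2` -/
theorem no_order_sq {G : Type*} [Group G] [Finite G] {s v : ℕ} (hs : s.Prime) (hv : ¬ s ^ (v + 1) ∣ Nat.card G)
    {N : Subgroup G} (hc : Nat.card N = s ^ v) (he : ∀ x ∈ N, x ^ s = 1) (g : G) : orderOf g ≠ s ^ 2 := by
  have : Fact s.Prime := ⟨hs⟩
  intro hg
  have h1 : IsPGroup s (zpowers g) := IsPGroup.of_card (n := 2) (by rw [Nat.card_zpowers, hg])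
  have h2 : ¬ s ∣ N.index := by
    intro h
    apply hv
    rw [← Subgroup.card_mul_index N, hc, pow_succ]
    exact Nat.mul_dvd_mul_left _ h
  obtain ⟨c, hcg⟩ := exists_conj_le hs (U := zpowers g) (M := N) h1 h2
  have h3 := he _ (hcg g (mem_zpowers g))
  have h4 : g ^ s = 1 := by
    have h5 : (c * g * c⁻¹) ^ s = c * g ^ s * c⁻¹ := by
      rw [← MulAut.conj_apply, ← map_pow, MulAut.conj_apply]
    rw [h5] at h3
    have h6 : c * g ^ s = c := by
      have := mul_eq_one_iff_eq_inv.1 h3
      rwa [inv_inv] at this
    exact mul_eq_left.1 h6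
  have h5 : s ^ 2 ∣ s := by
    rw [← hg]
    exact orderOf_dvd_of_pow_eq_one h4
  have h6 := Nat.le_of_dvd hs.pos h5
  have := hs.two_le
  nlinarith

/-! ### soundness -/

theorem Nat_pow_dvd_div {n p k s a : ℕ} (hp : p.Prime) (hs : s.Prime) (hsp : s ≠ p) {c : ℕ} (hn : n = c * p ^ k) :
    s ^ a ∣ c ↔ s ^ a ∣ n := by
  rw [hn]
  constructor
  · intro h
    exact h.mul_right _
  · intro h
    refine Nat.Coprime.dvd_of_dvd_mul_right ?_ h
    exact Nat.Coprime.pow _ _ ((Nat.coprime_primes hs hp).2 hsp)

theorem eq_top_of_chk (T : OrderTable.{u})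
    (hS : ∀ (X : Type u) [Group X] [Finite X] [IsSimpleGroup X], Cfsg.IsKnownSimple' X)
    {G : Type u} [Group G] [Finite G] [IsSimpleGroup G] {p r n v : ℕ} (hp : p.Prime) (hr : r.Prime) (hrp : r ≠ p)
    (hn : Nat.card G = n) {l : List (ℕ × ℕ)} (hv : valid l n = true) {R : Subgroup G} (hR : Nat.card R = r)
    (hC : centralizer (R : Set G) = R) {ex : List ℕ} (hex : ∀ s ∈ ex, ∃ g : G, orderOf g = s ^ 2)
    (hchk : chk n l p r v ex = true) {H : Subgroup G} {k : ℕ} (hk : k ≤ v) (hH : H.index = p ^ k) : H = ⊤ := by
  classical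
  have hpf : Fact p.Prime := ⟨hp⟩
  have hrf : Fact r.Prime := ⟨hr⟩
  by_contra hHt
  have hk0 : k ≠ 0 := by
    rintro rfl
    exact hHt (index_eq_one.1 (by rw [hH, pow_zero]))
  unfold chk at hchk
  rw [Bool.and_eq_true, List.all_eq_true] at hchk
  obtain ⟨hr2, hchk⟩ := hchk
  have hr2' : ¬ r ^ 2 ∣ n := by
    intro h
    rw [Nat.mod_eq_zero_of_dvd h] at hr2
    exact absurd hr2 (by decide)
  have hchk := hchk k (List.mem_range.2 (by omega))
  rw [Bool.or_eq_true] at hchk
  have hchk : chkK n l p r ((n / r) % r) k ex = true := by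
    rcases hchk with h | h
    · exact absurd (by simpa using h) hk0
    · exact h
  have hfac : n ∣ (p ^ k).factorial := by
    rw [← hn, ← hH]
    exact card_dvd_factorial hHt
  -- the subgroup `R`
  have hrn : r ∣ n := by
    rw [← hR, ← hn]
    exact Subgroup.card_subgroup_dvd_card R
  obtain ⟨m, hm⟩ := hrn
  have hrm : ¬ r ∣ m := by
    rintro ⟨c, hc⟩
    apply hr2'
    exact ⟨c, by rw [hm, hc]; ring⟩
  have hnr : n / r = m := by rw [hm]; exact Nat.mul_div_cancel_left _ hr.pos
  have hcyc : IsCyclic R := isCyclic_of_prime_card (p := r) hR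
  obtain ⟨⟨x, hxR⟩, hx⟩ := hcyc.exists_generator
  have hRx : R = zpowers x := by
    apply le_antisymm
    · intro y hy
      obtain ⟨j, hj⟩ := mem_zpowers_iff.1 (hx ⟨y, hy⟩)
      exact mem_zpowers_iff.2 ⟨j, congrArg Subtype.val hj⟩
    · rw [zpowers_le]; exact hxR
  have hCx : centralizer ({x} : Set G) = R := by
    rw [← hC, hRx, zpowers_eq_closure, centralizer_closure]
  have hSit : Sit G r m x := ⟨hr, by rw [hn, hm], hrm, by rw [hCx, hR]⟩
  have hnpos : 0 < n := by rw [← hn]; exact Nat.card_pos
  -- the conjugate of `H`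
  obtain ⟨H', hH'i, -, hRH', hmod, hdvd⟩ := SylCong.exists_dvd hp hr hrp (by rw [hn]; exact hr2') hH hR
  have hH't : H' ≠ ⊤ := by
    rintro rfl
    rw [index_top] at hH'i
    exact hHt (index_eq_one.1 (by rw [hH, ← hH'i]))
  have hcH' : Nat.card H' * p ^ k = n := by rw [← hH'i, Subgroup.card_mul_index, hn]
  -- `G` is not a `p`-group
  have hGp : ¬ IsPGroup p G := by
    intro h
    obtain ⟨j, hj⟩ := h.exists_card_eq
    have h1 : r ∣ p ^ j := by
      rw [← hj, hn, hm]
      exact dvd_mul_right _ _
    exact hrp ((Nat.prime_dvd_prime_iff_eq hr hp).1 (hr.dvd_of_dvd_pow h1))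
  have hm1 : m ≠ 1 := by
    rintro rfl
    rw [mul_one] at hm
    have h1 : p ∣ n := by
      rw [← hcH']
      exact (dvd_pow_self p hk0).mul_left _
    rw [hm] at h1
    exact hrp ((Nat.prime_dvd_prime_iff_eq hp hr).1 h1).symm
  -- `e`
  obtain ⟨e, he1, he2⟩ := hSit.card_norm hm1
  have hsyl := hSit.card_sylow_mul hm1 he2
  have he : m % r = e := by
    have h1 : Nat.card (Sylow r G) ≡ 1 [MOD r] := card_sylow_modEq_one r G
    have h2 : m ≡ e [MOD r] := by
      rw [← hsyl]
      simpa using h1.mul_right e
    have h3 : e < r := by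
      have := Nat.le_of_dvd (Nat.sub_pos_of_lt hr.one_lt) he1
      have := hr.one_lt
      omega
    rw [← Nat.mod_eq_of_lt h3]
    exact h2
  rw [hnr, he] at hchk
  rw [hRx] at hmod hdvd
  set d := H'.relIndex (normalizer ((zpowers x : Subgroup G) : Set G)) with hd
  rw [he2] at hdvd
  have hde : d ∣ e := Nat.dvd_of_mul_dvd_mul_left hr.pos hdvd
  have he0 : 0 < e := by
    rcases Nat.eq_zero_or_pos e with h | h
    · exfalso
      rw [h, zero_dvd_iff] at he1
      have := hr.one_lt
      omega
    · exact h
  have hd0 : 0 < d := Nat.pos_of_dvd_of_pos hde he0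
  have hdle : d ≤ e := Nat.le_of_dvd he0 hde
  -- the normaliser in `H'`
  have hxH : x ∈ H' := hRH' hxR
  let x' : H' := ⟨x, hxH⟩
  have hxo : orderOf x = r := hSit.orderOf_eq hm1
  have hx'o : orderOf x' = r := by rw [← hxo]; exact (Subgroup.orderOf_mk x hxH)
  have hNH : Nat.card (normalizer ((zpowers x' : Subgroup H') : Set H')) = r * (e / d) := by
    have h1 : normalizer ((zpowers x' : Subgroup H') : Set H') =
        (normalizer ((zpowers x : Subgroup G) : Set G)).subgroupOf H' := by
      have hmem : ∀ w : H', w ∈ zpowers x' ↔ (w : G) ∈ zpowers x := by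
        intro w
        rw [mem_zpowers_iff, mem_zpowers_iff]
        constructor
        · rintro ⟨j, hj⟩
          exact ⟨j, congrArg Subtype.val hj⟩
        · rintro ⟨j, hj⟩
          exact ⟨j, Subtype.ext hj⟩
      ext w
      rw [mem_subgroupOf, mem_normalizer_iff, mem_normalizer_iff]
      constructor
      · intro h y
        constructor
        · intro hy
          have hyH : y ∈ H' := by
            have : y ∈ R := by rw [hRx]; exact hy
            exact hRH' this
          have h2 := (h ⟨y, hyH⟩).1 ((hmem _).2 hy)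
          exact (hmem _).1 h2
        · intro hy
          have hyH : (w : G) * y * (w : G)⁻¹ ∈ H' := by
            have : (w : G) * y * (w : G)⁻¹ ∈ R := by rw [hRx]; exact hy
            exact hRH' this
          have hyH' : y ∈ H' := by
            have h3 := mul_mem (mul_mem (inv_mem w.2) hyH) w.2
            rwa [show (w : G)⁻¹ * ((w : G) * y * (w : G)⁻¹) * w = y by group] at h3
          have h2 := (h ⟨y, hyH'⟩).2 ((hmem _).2 hy)
          exact (hmem _).1 h2
      · intro h y
        rw [hmem, hmem]
        exact h y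
    rw [h1]
    have h2 : Nat.card ((normalizer ((zpowers x : Subgroup G) : Set G)).subgroupOf H') =
        Nat.card (H'.subgroupOf (normalizer ((zpowers x : Subgroup G) : Set G))) := by
      have e1 : Nat.card ((normalizer ((zpowers x : Subgroup G) : Set G)).subgroupOf H') =
          Nat.card (normalizer ((zpowers x : Subgroup G) : Set G) ⊓ H' : Subgroup G) := by
        rw [← Subgroup.inf_subgroupOf_right]
        exact Nat.card_congr (Subgroup.subgroupOfEquivOfLe inf_le_right).toEquiv
      have e2 : Nat.card (H'.subgroupOf (normalizer ((zpowers x : Subgroup G) : Set G))) =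
          Nat.card (H' ⊓ normalizer ((zpowers x : Subgroup G) : Set G) : Subgroup G) := by
        rw [← Subgroup.inf_subgroupOf_right]
        exact Nat.card_congr (Subgroup.subgroupOfEquivOfLe inf_le_right).toEquiv
      rw [e1, e2, inf_comm]
    rw [h2]
    have h3 := Subgroup.card_mul_index (H'.subgroupOf (normalizer ((zpowers x : Subgroup G) : Set G)))
    rw [he2] at h3
    have h4 : (H'.subgroupOf (normalizer ((zpowers x : Subgroup G) : Set G))).index = d := rfl
    rw [h4] at h3
    obtain ⟨c, hc⟩ := hde
    rw [hc, Nat.mul_div_cancel_left _ hd0]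
    apply Nat.eq_of_mul_eq_mul_right hd0
    rw [h3, hc]
    ring
  have hokd : okd n p r e k d = true := by
    unfold okd
    simp only [Bool.and_eq_true, Nat.ble_eq, beq_iff_eq]
    refine ⟨⟨⟨hd0, Nat.mod_eq_zero_of_dvd hde⟩, hmod⟩, ?_⟩
    apply Nat.mod_eq_zero_of_dvd
    have h1 : n / p ^ k = Nat.card H' := by
      rw [← hcH']
      exact Nat.mul_div_cancel _ (pow_pos hp.pos k)
    rw [h1, ← hNH]
    exact Subgroup.card_subgroup_dvd_card _
  unfold chkK at hchk
  rw [List.all_eq_true] at hchk
  have hchk := hchk d (List.mem_range.2 (by omega))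
  rw [hokd, Nat.mod_eq_zero_of_dvd hfac] at hchk
  simp only [Bool.not_true, Bool.false_or, bne_self_eq_false, Bool.and_false, Bool.and_eq_true] at hchk
  obtain ⟨⟨hel, hcn⟩, hne⟩ := hchk
  have hne : n ≠ r * (e / d) * p ^ k := by simpa using hne
  -- the situation in `H'`
  have hrH : r ∣ Nat.card H' := by
    rw [← hR]
    exact Subgroup.card_dvd_of_le hRH'
  obtain ⟨m', hm'⟩ := hrH
  have hrm' : ¬ r ∣ m' := by
    rintro ⟨c, hc⟩
    apply hr2'
    exact ⟨c * p ^ k, by rw [← hcH', hm', hc]; ring⟩
  have hC' : Nat.card (centralizer ({x'} : Set H')) = r := by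
    have h1 : centralizer ({x'} : Set H') = zpowers x' := by
      apply le_antisymm
      · intro w hw
        rw [mem_centralizer_singleton_iff] at hw
        have h2 : (w : G) ∈ centralizer ({x} : Set G) :=
          mem_centralizer_singleton_iff.2 (congrArg Subtype.val hw)
        rw [hCx, hRx] at h2
        obtain ⟨j, hj⟩ := mem_zpowers_iff.1 h2
        exact mem_zpowers_iff.2 ⟨j, Subtype.ext hj⟩
      · rw [zpowers_le]
        exact Sit.mem_self x'
    rw [h1, Nat.card_zpowers, hx'o]
  have hSit' : Sit H' r m' x' := ⟨hr, hm', hrm', hC'⟩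
  have hm'1 : m' ≠ 1 := by
    intro h
    rw [h, mul_one] at hm'
    have h1 : r * (e / d) ∣ r := by
      rw [← hNH]
      rw [← hm']
      exact Subgroup.card_subgroup_dvd_card _
    have h2 : e / d ∣ 1 := Nat.dvd_of_mul_dvd_mul_left hr.pos (by rwa [mul_one])
    have h3 : e / d = 1 := Nat.dvd_one.1 h2
    apply hne
    rw [h3, mul_one, ← hm', hcH']
  have hexact : ∀ s j, s.Prime → s ^ j ∣ n → ∀ w, (s, w) ∈ l → j ≤ w := by
    intro s j _ hj w hw
    by_contra hlt
    exact valid_exact hv _ hw ((pow_dvd_pow s (by simp only; omega)).trans hj)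
  rcases EngStr.cases hSit' hm'1 with ⟨N, s, hNn, hN1, hs, hsr, hNs, hNe, hNc⟩ | ⟨N, hNs, hNa, hrN, hNi⟩ | h
  · -- elementary abelian normal subgroup
    have hsf : Fact s.Prime := ⟨hs⟩
    obtain ⟨a, ha⟩ := hNs.exists_card_eq
    have ha1 : a ≠ 0 := by
      rintro rfl
      rw [pow_zero] at ha
      exact hN1 (Subgroup.card_eq_one.1 ha)
    have hNc' : Nat.card (N.map H'.subtype) = s ^ a := by
      rw [← ha]
      exact (Nat.card_congr (N.equivMapOfInjective _ (subtype_injective _)).toEquiv).symm
    by_cases hsp : s = p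
    · subst hsp
      apply hN1
      have h1 : N.map H'.subtype = ⊥ := by
        apply core_bot hp hGp hH'i (hNs.map _)
        rintro h hh _ ⟨y, hy, rfl⟩
        exact ⟨⟨h, hh⟩ * y * ⟨h, hh⟩⁻¹, hNn.conj_mem y hy _, rfl⟩
      exact (Subgroup.map_eq_bot_iff_of_injective _ H'.subtype_injective).1 h1
    · have hrN : ¬ r ∣ Nat.card N := by
        rw [ha]
        intro h
        exact hsr ((Nat.prime_dvd_prime_iff_eq hr hs).1 (hr.dvd_of_dvd_pow h)).symm
      have hmodN : s ^ a % r = 1 := by
        obtain ⟨P⟩ : Nonempty (Sylow s N) := inferInstance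
        have h1 := hSit'.modEq hm'1 N hrN hs P
        have h2 : Nat.card P = s ^ a := by
          rw [P.card_eq_multiplicity, ha, hs.factorization_pow, Finsupp.single_eq_same]
        rw [h2] at h1
        have h3 : s ^ a % r = 1 % r := h1
        rw [h3]
        exact Nat.mod_eq_of_lt hr.one_lt
      have hsn : s ^ a ∣ n := by
        rw [← ha, ← hcH']
        exact (Subgroup.card_subgroup_dvd_card N).mul_right _
      obtain ⟨w, hw, haw⟩ := exists_pair hv hs (Nat.pos_of_ne_zero ha1) hsn
      unfold chkEl at hel
      rw [List.all_eq_true] at hel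
      have h1 := hel _ hw
      rw [Bool.or_eq_true, Bool.or_eq_true] at h1
      rcases h1 with (h1 | h1) | h1
      · exact hsp (by simpa using h1)
      · exact hsr (by simpa using h1)
      rw [List.all_eq_true] at h1
      have h2 := h1 a (List.mem_range.2 (by simp only; omega))
      simp only [Bool.or_eq_true] at h2
      rcases h2 with ((h2 | h2) | h2) | h2
      · exact ha1 (by simpa using h2)
      · rw [hmodN] at h2
        exact absurd h2 (by decide)
      · rw [Bool.and_eq_true] at h2
        obtain ⟨g, hg⟩ := hex s (by simpa using h2.1)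
        have haw' : a = w := by simpa using h2.2
        subst haw'
        refine no_order_sq hs (v := a) (by rw [hn]; exact valid_exact hv _ hw) hNc' ?_ g hg
        rintro _ ⟨y, hy, rfl⟩
        rw [← map_pow, hNe y hy, map_one]
      · rw [List.any_eq_true] at h2
        obtain ⟨⟨t, w'⟩, hy, h2⟩ := h2
        simp only [Bool.and_eq_true, List.all_eq_true, bne_iff_ne, ne_eq, Nat.ble_eq, List.mem_range,
          Bool.or_eq_true, beq_iff_eq] at h2
        obtain ⟨⟨⟨⟨⟨htp, hts⟩, htr⟩, hw1⟩, hi⟩, hb⟩ := h2
        have htP : t.Prime := valid_prime hv _ hy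
        have htf : Fact t.Prime := ⟨htP⟩
        have htn : t ∣ n := by
          rw [← valid_prod hv]
          unfold prodl
          exact (dvd_pow_self t (by omega)).trans
            (List.dvd_prod (List.mem_map.2 ⟨(t, w'), hy, rfl⟩))
        have htH : t ∣ Nat.card H' := by
          have := (Nat_pow_dvd_div (a := 1) hp htP htp hcH'.symm).2 (by rwa [pow_one])
          rwa [pow_one] at this
        obtain ⟨y, hyo⟩ := exists_prime_orderOf_dvd_card' t htH
        have hcent := centralizes hs htP hts (N := N) (fun h x hx => hNn.conj_mem x hx h) ha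
          (fun i h1 h2 => by
            have := hi i (by omega)
            rcases this with h3 | h3
            · omega
            · exact h3) hyo
        -- the centraliser of `N`
        let C : Subgroup H' := centralizer (N : Set H')
        have hyC : y ∈ C := by
          rw [mem_centralizer_iff]
          intro x hx
          exact hcent x hx
        have hCn : C.Normal := by
          refine ⟨fun c hc g => ?_⟩
          rw [mem_centralizer_iff] at hc ⊢
          intro x hx
          have h3 := hNn.conj_mem x hx g⁻¹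
          rw [inv_inv] at h3
          have h4 := hc _ h3
          calc x * (g * c * g⁻¹) = g * ((g⁻¹ * x * g) * c) * g⁻¹ := by group
            _ = g * (c * (g⁻¹ * x * g)) * g⁻¹ := by rw [h4]
            _ = _ := by group
        have hrC : ¬ r ∣ Nat.card C := by
          intro h3
          obtain ⟨z, hz⟩ := exists_prime_orderOf_dvd_card' r h3
          have hz' : orderOf (z : H') = r := by rw [Subgroup.orderOf_coe, hz]
          have hS := hSit'.cent_of_orderOf hm'1 hz'
          have h4 : N ≤ centralizer ({(z : H')} : Set H') := by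
            intro x hx
            rw [mem_centralizer_singleton_iff]
            exact (mem_centralizer_iff.1 z.2 x hx)
          have h5 := Subgroup.card_dvd_of_le h4
          rw [hS.cent, ha] at h5
          have h6 : s ∣ r := (dvd_pow_self s ha1).trans h5
          exact hsr ((Nat.prime_dvd_prime_iff_eq hs hr).1 h6)
        have htC : ¬ t ∣ Nat.card C := by
          intro h3
          obtain ⟨P⟩ : Nonempty (Sylow t C) := inferInstance
          have h4 := hSit'.modEq hm'1 C hrC htP P
          have h5 : Nat.card P = t ^ (Nat.card C).factorization t := P.card_eq_multiplicity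
          set b := (Nat.card C).factorization t with hbdef
          have h6 : b ≠ 0 := by
            rw [hbdef]
            exact (htP.factorization_pos_of_dvd Nat.card_pos.ne' h3).ne'
          have h7 : t ^ b ∣ n := by
            rw [← hcH', ← h5]
            refine Dvd.dvd.mul_right ?_ _
            exact (Subgroup.card_subgroup_dvd_card (P : Subgroup C)).trans (Subgroup.card_subgroup_dvd_card C)
          have h8 := hexact t b htP h7 w' hy
          have h9 := hb b (by omega)
          rcases h9 with h9 | h9
          · exact h6 h9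
          · apply h9
            rw [h5] at h4
            have h10 : t ^ b % r = 1 % r := h4
            rw [h10]
            exact Nat.mod_eq_of_lt hr.one_lt
        apply htC
        rw [← hyo]
        exact Subgroup.orderOf_dvd_natCard C hyC
  · -- simple normal subgroup
    have hNs' : IsSimpleGroup N := hNs
    have hk := hS N
    have h1 := hNi _ hNH
    have h2 : Nat.card N ∣ n := by
      rw [← hcH']
      exact (Subgroup.card_subgroup_dvd_card N).mul_right _
    obtain ⟨g, hg, -, hgc⟩ := exists_good T hk hNa hv h2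
    unfold chkN at hcn
    rw [List.all_eq_true] at hcn
    have hed : 0 < e / d := Nat.div_pos hdle hd0
    have h3 := hcn N.index (List.mem_range.2 (by have := Nat.le_of_dvd hed h1; omega))
    rw [Bool.or_eq_true, Bool.or_eq_true] at h3
    rcases h3 with (h3 | h3) | h3
    · exact (Subgroup.FiniteIndex.index_ne_zero (H := N)) (by simpa using h3)
    · rw [Nat.mod_eq_zero_of_dvd h1] at h3
      exact absurd h3 (by decide)
    · rw [List.all_eq_true] at h3
      have h4 := h3 g hg
      rw [bne_iff_ne] at h4
      apply h4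
      rw [← hgc, Subgroup.card_mul_index, hcH']
  · apply hne
    rw [← h _ hNH, ← hm', hcH']

/-- the form for all indices -/
theorem good_of_chk (T : OrderTable.{u})
    (hS : ∀ (X : Type u) [Group X] [Finite X] [IsSimpleGroup X], Cfsg.IsKnownSimple' X)
    {G : Type u} [Group G] [Finite G] [IsSimpleGroup G] {p r n v : ℕ} (hp : p.Prime) (hr : r.Prime) (hrp : r ≠ p)
    (hn : Nat.card G = n) {l : List (ℕ × ℕ)} (hv : valid l n = true) {R : Subgroup G} (hR : Nat.card R = r)
    (hC : centralizer (R : Set G) = R) {ex : List ℕ} (hex : ∀ s ∈ ex, ∃ g : G, orderOf g = s ^ 2)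
    (hpv : ¬ p ^ (v + 1) ∣ n) (hchk : chk n l p r v ex = true) : Core.Good p G := by
  intro H k hH
  refine eq_top_of_chk T hS hp hr hrp hn hv hR hC hex hchk (k := k) ?_ hH
  by_contra hlt
  apply hpv
  refine (pow_dvd_pow p (show v + 1 ≤ k by omega)).trans ?_
  rw [← hH, ← hn]
  exact Subgroup.index_dvd_card H

end Cfsg.Agent.H408.Engine
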