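import Cfsg.Agent.H408.SporEng
import Cfsg.Agent.H729.PairMathieu
import Cfsg.Agent.H729.PairTool_m3
import Cfsg.Agent.H729.M22Deg
import Cfsg.Agent.H898.J3Cent
import Cfsg.Agent.H836.Main
import Cfsg.Agent.H839.SeventeenMain_m3
import Cfsg.Agent.H413.JOneLocal
import Cfsg.Agent.OddCyclic.EmpE.Kill
import Cfsg.Agent.H603.SporElim
import Cfsg.Agent.H689.SporNorm
import Cfsg.Agent.H723.Spor.JFour
import Cfsg.Agent.H828.KillHe
import Cfsg.Agent.SporadicA.M24.Sylow23
import Cfsg.Agent.KFacts.J2.Facts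
import Cfsg.Agent.J2Type.ThreeF
import Cfsg.Agent.Prune
set_option linter.all false
prune_inst 0x7f00000000000000000000000000000000000000000000000000000000000000000000000000000000000000000000000000000000000000000000000000000000000000000000000000000000000000003fffffffffffffffffffffffffffbeffbdffffffff
open scoped Cfsg.Agent.FastGrp

/-!
# Self-centralising elements of prime order in sporadic groups (helper408)
-/

set_option autoImplicit false

namespace Cfsg.Agent.H408.SporSelf

open Subgroup Cfsg Cfsg.Agent.H408.SporEng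

theorem m11 : Self 11 Spor.M11 := by
  have hG := Cfsg.Agent.OddHalf.D8.M11.isM11 (X := Spor.M11) ⟨MulEquiv.refl _⟩
  have : Finite Spor.M11 := Nat.finite_of_card_ne_zero (by rw [hG.2]; norm_num)
  exact Self.of_all (by norm_num) (by rw [hG.2]; norm_num) fun x hx => SporadicA.M11Sylow.card_centralizer_eleven hG hx

theorem m12 : Self 11 Spor.M12 :=
  Self.of_hom H729.PairMathieu.inc12 H729.PairMathieu.inc12_injective (by norm_num)
    (by rw [NotCT.Orders.m12 ⟨MulEquiv.refl _⟩]; norm_num) fun _ hx => H729.PairMathieu.card_cent_eleven hx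

theorem m22 : Self 11 Spor.M22 :=
  Self.of_hom H729.M22Deg.inc H729.M22Deg.inc_injective (by norm_num)
    (by rw [NotCT.Orders.m22 ⟨MulEquiv.refl _⟩]; norm_num) fun _ hx => H729.PairMathieu.card_cent_eleven hx

theorem m24 : Self 23 M24 := by
  have hc : Nat.card M24 = 244823040 := NotCT.Orders.m24 ⟨MulEquiv.refl _⟩
  have hs : IsSimpleGroup M24 := Cfsg.Agent.S0365.result
  have hf : Finite M24 := Nat.finite_of_card_ne_zero (by rw [hc]; norm_num)
  have hF : Fact (Nat.Prime 23) := ⟨by norm_num⟩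
  obtain ⟨P⟩ : Nonempty (Sylow 23 M24) := inferInstance
  have h1 := Cfsg.Agent.SporadicA.M24.Sylow23.centralizer_eq hc P
  refine Self.of_eq (by norm_num) (P := (P : Subgroup M24)) ?_ h1
  rw [P.card_eq_multiplicity, hc]
  have : (244823040 : ℕ).factorization 23 = 1 := by
    rw [show (244823040 : ℕ) = 23 ^ 1 * 10644480 by norm_num, Nat.factorization_mul (by norm_num) (by norm_num),
      Nat.Prime.factorization_pow (by norm_num)]
    simp [Nat.factorization_eq_zero_of_not_dvd (show ¬ 23 ∣ 10644480 by norm_num)]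
  rw [this, pow_one]

theorem m23 : Self 23 Spor.M23 := by
  have hc : Nat.card Spor.M23 = 10200960 := NotCT.Orders.m23 ⟨MulEquiv.refl _⟩
  have hs := H729.PairMathieu.simple_M23
  have hf : Finite Spor.M23 := Nat.finite_of_card_ne_zero (by rw [hc]; norm_num)
  have hF : Fact (Nat.Prime 23) := ⟨by norm_num⟩
  obtain ⟨P⟩ : Nonempty (Sylow 23 Spor.M23) := inferInstance
  exact Self.of_eq (by norm_num) (Cfsg.Agent.M23.Sylow23.card_sylow hc P)
    (Cfsg.Agent.M23.Sylow23.centralizer_eq hc P)

theorem j1 : Self 19 Spor.J1 := by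
  obtain ⟨hs, hc⟩ := Cfsg.Agent.SporadicB.J1.Main.isJ1
  have : Finite Spor.J1 := Nat.finite_of_card_ne_zero (by rw [hc]; norm_num)
  exact Self.of_all (by norm_num) (by rw [hc]; norm_num)
    fun x hx => OddCyclic.EmpE.Kill.card_cent H413.JOneLocal.isLocal hc hx

theorem j2 : Self 7 Spor.J2 := by
  have h : Spor.IsoJ2 Spor.J2 := ⟨MulEquiv.refl _⟩
  have hc := NotCT.Orders.j2 h
  have hfin : Finite Spor.J2 := Nat.finite_of_card_ne_zero (by rw [hc]; norm_num)
  obtain ⟨t, u, Q, v, ρ, D⟩ := Cfsg.Agent.KFacts.J2.Facts.exists_dat_of h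
  have h7 : Fact (Nat.Prime 7) := ⟨by norm_num⟩
  obtain ⟨P⟩ : Nonempty (Sylow 7 Spor.J2) := inferInstance
  have hP := Cfsg.Agent.J2Type.ThreeF.sylow_seven D.F P
  have hcP : Nat.card (P : Subgroup Spor.J2) = 7 := by
    have := Cfsg.Agent.J2Type.SylowSeven.card_sylow P 1 86400 (by rw [hc]; norm_num) (by norm_num)
    simpa using this
  exact Self.of_eq (by norm_num) hcP hP.1

theorem j3 {M : Type*} [Group M] (h : Spor.IsoJ3 M) : Self 19 M := by
  obtain ⟨hs, hc, -⟩ := H898.J3Cent.base h
  have : Finite M := Nat.finite_of_card_ne_zero (by rw [hc]; norm_num)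
  exact Self.of_all (by norm_num) (by rw [hc]; norm_num) fun x hx => H898.J3Cent.card_nineteen h hx

theorem j4 : Self 43 Spor.J4 := by
  have hc := NotCT.Orders.j4 (K := Spor.J4) ⟨MulEquiv.refl _⟩
  have : Finite Spor.J4 := Nat.finite_of_card_ne_zero (by rw [hc]; norm_num)
  exact Self.of_all (by norm_num) (by rw [hc]; norm_num) fun x hx => H723.Spor.JFour.cent_big (by norm_num) hx

theorem he : Self 17 Spor.He := ⟨_, H828.KillHe.order17, H828.KillHe.cent17⟩

theorem fi22 : Self 13 Spor.Fi22 := by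
  have I := H836.inv_of_iso (MulEquiv.refl Spor.Fi22)
  have hfin : Finite Spor.Fi22 := I.ctx.finite
  have hc := I.ctx.card
  refine Self.of_all (by norm_num) (by rw [hc]; norm_num) fun x hx => ?_
  obtain ⟨-, h2⟩ := (H836.Main.thirteen_concl (MulEquiv.refl Spor.Fi22)).2 (zpowers x) (by rw [Nat.card_zpowers, hx])
  rw [SporEng.centralizer_zpowers_eq] at h2
  rw [h2, Nat.card_zpowers, hx]

theorem fi23 : Self 23 Spor.Fi23 := by
  have hc := NotCT.Orders.fi23 (K := Spor.Fi23) ⟨MulEquiv.refl _⟩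
  have : Finite Spor.Fi23 := Nat.finite_of_card_ne_zero (by rw [hc]; norm_num)
  refine Self.of_all (by norm_num) (by rw [hc]; norm_num) fun x hx => ?_
  obtain ⟨-, h2⟩ := H839.Fi23.twentythree_main (zpowers x) (by rw [Nat.card_zpowers, hx])
  rw [SporEng.centralizer_zpowers_eq] at h2
  rw [h2, Nat.card_zpowers, hx]

theorem fi24 : Self 29 Spor.Fi24' := by
  have hc := NotCT.Orders.fi24 (K := Spor.Fi24') ⟨MulEquiv.refl _⟩
  have hfin : Finite Spor.Fi24 := Cfsg.Agent.R08.FiTwentyFour.finite_Fi24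
  have hfin' : Finite Spor.Fi24' := inferInstance
  have hc24 : Nat.card Spor.Fi24 = 2510411418381323442585600 := H843.Fi24N.card_Fi24
  refine Self.of_hom (_root_.commutator Spor.Fi24).subtype (subtype_injective _) (by norm_num) (by rw [hc]; norm_num) fun x hx => ?_
  have h1 := H689.card_centralizer_of_sylow (r := 29) (by norm_num) (by rw [hc24]; norm_num) hx
    H843.D29.order
  rw [h1, ← SporEng.centralizer_zpowers_eq, H843.D29.main.2]

end Cfsg.Agent.H408.SporSelf
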